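import Mathlib

/-!
The double cover of the alternating group inside the monomial Clifford algebra over three elements,
realised by signed toggling operators on functions of the subsets of `Fin n`.
-/

set_option autoImplicit false

namespace Cfsg.Agent.Lib.Spin

open Equiv

variable {n : ℕ}

/-- Functions on the subsets of `Fin n`. -/
abbrev Sp (n : ℕ) : Type := Finset (Fin n) → ZMod 3

/-- Linear operators on `Sp n`. -/
abbrev Op (n : ℕ) : Type := Module.End (ZMod 3) (Sp n)

/-- Toggle the membership of `i`. -/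
def tog (i : Fin n) (S : Finset (Fin n)) : Finset (Fin n) :=
  if i ∈ S then S.erase i else insert i S

theorem tog_tog (i : Fin n) (S : Finset (Fin n)) : tog i (tog i S) = S := by
  by_cases h : i ∈ S <;> simp [tog, h]

theorem mem_tog {i j : Fin n} {S : Finset (Fin n)} :
    j ∈ tog i S ↔ (j ≠ i ∧ j ∈ S) ∨ (j = i ∧ i ∉ S) := by
  by_cases h : i ∈ S <;> by_cases hj : j = i <;> simp [tog, h, hj]

theorem tog_comm (i j : Fin n) (S : Finset (Fin n)) : tog i (tog j S) = tog j (tog i S) := by
  ext k
  simp only [mem_tog]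
  grind

theorem tog_empty (i : Fin n) : tog i ∅ = {i} := by simp [tog]

/-- The sign character attached to a sign pattern. -/
def wt (c : Fin n → ZMod 3) (S : Finset (Fin n)) : ZMod 3 := ∏ j ∈ S, c j

theorem wt_tog {c : Fin n → ZMod 3} (hc : ∀ j, c j * c j = 1) (i : Fin n) (S : Finset (Fin n)) :
    wt c (tog i S) = c i * wt c S := by
  by_cases h : i ∈ S
  · rw [tog, if_pos h, wt, wt, ← Finset.mul_prod_erase S c h, ← mul_assoc, hc, one_mul]
  · rw [tog, if_neg h, wt, wt, Finset.prod_insert h]

theorem wt_sq {c : Fin n → ZMod 3} (hc : ∀ j, c j * c j = 1) (S : Finset (Fin n)) :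
    wt c S * wt c S = 1 := by
  rw [wt, ← Finset.prod_mul_distrib]
  exact Finset.prod_eq_one fun j _ => hc j

/-- Pattern of the left multiplications. -/
def cL (i j : Fin n) : ZMod 3 := if j < i then -1 else 1

/-- Pattern of the right multiplications. -/
def cR (i j : Fin n) : ZMod 3 := if i < j then -1 else 1

theorem cL_sq (i j : Fin n) : cL i j * cL i j = 1 := by unfold cL; split_ifs <;> simp

theorem cR_sq (i j : Fin n) : cR i j * cR i j = 1 := by unfold cR; split_ifs <;> simp

/-- Signed toggle. -/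
def sop (c : Fin n → ZMod 3) (i : Fin n) : Op n where
  toFun f := fun S => wt c S * f (tog i S)
  map_add' f g := funext fun S => by simp [mul_add]
  map_smul' a f := funext fun S => by simp; ring

theorem sop_apply (c : Fin n → ZMod 3) (i : Fin n) (f : Sp n) (S : Finset (Fin n)) :
    sop c i f S = wt c S * f (tog i S) := rfl

/-- Left multiplication by the `i`-th generator. -/
def opL (i : Fin n) : Op n := sop (cL i) i

/-- Right multiplication by the `i`-th generator. -/
def opR (i : Fin n) : Op n := sop (cR i) i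

/-- The parity operator. -/
def opP : Op n where
  toFun f := fun S => wt (fun _ => -1) S * f S
  map_add' f g := funext fun S => by simp [mul_add]
  map_smul' a f := funext fun S => by simp; ring

theorem opP_apply (f : Sp n) (S : Finset (Fin n)) : opP f S = wt (fun _ => -1) S * f S := rfl

theorem sop_sop {c d : Fin n → ZMod 3} (hd : ∀ j, d j * d j = 1) (i k : Fin n) (f : Sp n)
    (S : Finset (Fin n)) :
    sop c i (sop d k f) S = d i * (wt c S * wt d S) * f (tog k (tog i S)) := by
  rw [sop_apply, sop_apply, wt_tog hd]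
  ring

theorem op_mul_neg (x y : Op n) : x * -y = -(x * y) := mul_neg x y

theorem op_neg_mul (x y : Op n) : -x * y = -(x * y) := neg_mul x y

theorem op_neg_neg (x : Op n) : - -x = x := neg_neg x

theorem op_neg_one_smul (x : Op n) : (-1 : ZMod 3) • x = -x := neg_one_smul _ x

theorem opL_sq (i : Fin n) : opL i * opL i = 1 := by
  refine LinearMap.ext fun f => funext fun S => ?_
  show sop _ i (sop _ i f) S = f S
  rw [sop_sop (cL_sq i), tog_tog, wt_sq (cL_sq i)]
  simp [cL]

theorem opL_anticomm {i k : Fin n} (h : i ≠ k) : opL i * opL k = -(opL k * opL i) := by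
  refine LinearMap.ext fun f => funext fun S => ?_
  show sop _ i (sop _ k f) S = - sop _ k (sop _ i f) S
  rw [sop_sop (cL_sq k), sop_sop (cL_sq i), tog_comm k i, mul_comm (wt (cL k) S)]
  rcases lt_or_gt_of_ne h with h' | h' <;> simp [cL, h', h'.le, not_lt.mpr h'.le]

theorem opL_opR (i k : Fin n) : Commute (opL i) (opR k) := by
  refine LinearMap.ext fun f => funext fun S => ?_
  show sop _ i (sop _ k f) S = sop _ k (sop _ i f) S
  rw [sop_sop (cR_sq k), sop_sop (cL_sq i), tog_comm k i, mul_comm (wt (cR k) S)]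
  simp only [cL, cR]

theorem opL_opP (i : Fin n) : opL i * opP = -(opP * opL i) := by
  refine LinearMap.ext fun f => funext fun S => ?_
  show sop (cL i) i (opP f) S = -(opP (sop (cL i) i f) S)
  rw [sop_apply, opP_apply, opP_apply, sop_apply, wt_tog (fun _ => by simp)]
  ring

theorem opP_single_empty : opP (Pi.single ∅ 1 : Sp n) = Pi.single ∅ 1 := by
  refine funext fun S => ?_
  rw [opP_apply]
  by_cases h : S = ∅
  · subst h; simp [wt]
  · simp [h]

theorem sop_single {c : Fin n → ZMod 3} (hc : ∀ j, c j * c j = 1) {i : Fin n} (hci : c i = 1)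
    (S : Finset (Fin n)) :
    sop c i (Pi.single S 1) = wt c S • (Pi.single (tog i S) 1 : Sp n) := by
  refine funext fun T => ?_
  rw [sop_apply, Pi.smul_apply, smul_eq_mul]
  by_cases h : T = tog i S
  · subst h
    rw [tog_tog, Pi.single_eq_same, Pi.single_eq_same, wt_tog hc, hci, one_mul]
  · rw [Pi.single_eq_of_ne h, Pi.single_eq_of_ne fun e => h (by rw [← e, tog_tog]),
      mul_zero, mul_zero]

/-- An operator commuting with all generators and the parity is a scalar. -/
theorem eq_scalar {g : Op n} (hL : ∀ i, Commute g (opL i)) (hR : ∀ i, Commute g (opR i))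
    (hP : Commute g opP) : ∃ c : ZMod 3, g = c • 1 := by
  set e : Finset (Fin n) → Sp n := fun S => Pi.single S 1 with he
  have hc : ∀ {a : Op n}, Commute g a → ∀ f, g (a f) = a (g f) := fun h f =>
    LinearMap.congr_fun h.eq f
  set f := g (e ∅) with hf
  have hempty : ∀ i : Fin n, opL i (e ∅) = e {i} ∧ opR i (e ∅) = e {i} := by
    intro i
    constructor
    · show sop _ i _ = _
      rw [he, sop_single (cL_sq i) (by simp [cL]), tog_empty]
      simp [wt]
    · show sop _ i _ = _
      rw [he, sop_single (cR_sq i) (by simp [cR]), tog_empty]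
      simp [wt]
  have hsupp : ∀ T : Finset (Fin n), T.Nonempty → f T = 0 := by
    rintro T ⟨i, hi⟩
    by_contra hT
    have h1 : opL i f = opR i f := by
      rw [hf, ← hc (hL i), ← hc (hR i), (hempty i).1, (hempty i).2]
    have h2 : wt (cL i) T = wt (cR i) T := by
      have h3 := congrFun h1 (tog i T)
      change sop _ i f (tog i T) = sop _ i f (tog i T) at h3
      rw [sop_apply, sop_apply, tog_tog, wt_tog (cL_sq i), wt_tog (cR_sq i)] at h3
      simpa [cL, cR, hT] using h3
    have h4 : wt (fun _ => -1) T = (1 : ZMod 3) := by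
      have h5 : opP f = f := by rw [hf, ← hc hP, he, opP_single_empty]
      have h6 := congrFun h5 T
      rw [opP_apply] at h6
      exact mul_right_cancel₀ hT (by rw [h6, one_mul])
    have h7 : wt (cL i) T * wt (cR i) T = - wt (fun _ => -1) T := by
      rw [wt, wt, wt, ← Finset.prod_mul_distrib, ← Finset.mul_prod_erase T _ hi,
        ← Finset.mul_prod_erase T (fun _ => (-1 : ZMod 3)) hi]
      have : ∀ j ∈ T.erase i, cL i j * cR i j = (-1 : ZMod 3) := by
        intro j hj
        rcases lt_or_gt_of_ne (Finset.ne_of_mem_erase hj) with h | h <;>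
          simp [cL, cR, h, not_lt.mpr h.le]
      rw [Finset.prod_congr rfl this]
      simp [cL, cR]
    rw [h4, ← h2, wt_sq (cL_sq i)] at h7
    exact absurd h7 (show ¬ ((1 : ZMod 3) = -1) by decide)
  refine ⟨f ∅, ?_⟩
  have key : ∀ S, g (e S) = f ∅ • e S := by
    intro S
    induction S using Finset.induction with
    | empty =>
      refine funext fun T => ?_
      rcases T.eq_empty_or_nonempty with rfl | hT
      · rw [← hf]
        simp [he]
      · rw [← hf, hsupp T hT]
        simp [he, hT.ne_empty]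
    | @insert i S hi ih =>
      have h1 : e (insert i S) = wt (cL i) S • opL i (e S) := by
        show _ = _ • sop _ i _
        rw [he, sop_single (cL_sq i) (by simp [cL]), smul_smul, wt_sq (cL_sq i), one_smul, tog,
          if_neg hi]
      rw [h1, map_smul, hc (hL i), ih, map_smul, smul_comm]
  refine LinearMap.pi_ext fun S x => ?_
  have hx : (Pi.single S x : Sp n) = x • e S := by rw [he, ← Pi.single_smul, smul_eq_mul, mul_one]
  rw [hx, map_smul, key]
  simp [smul_comm x]

attribute [irreducible] opL opR opP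

/-- The sign of a permutation in `ZMod 3`. -/
def chi : Perm (Fin n) →* ZMod 3 :=
  (Int.castRingHom (ZMod 3)).toMonoidHom.comp ((Units.coeHom ℤ).comp Perm.sign)

theorem chi_sq (σ : Perm (Fin n)) : chi σ * chi σ = 1 := by
  rw [← map_mul]
  rcases Int.units_eq_one_or (Perm.sign σ) with h | h <;> simp [chi, h]

theorem chi_inv (σ : Perm (Fin n)) : chi σ⁻¹ = chi σ := by
  have h : chi σ⁻¹ * chi σ = 1 := by rw [← map_mul, inv_mul_cancel, map_one]
  calc chi σ⁻¹ = chi σ⁻¹ * (chi σ * chi σ) := by rw [chi_sq, mul_one]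
    _ = chi σ := by rw [← mul_assoc, h, one_mul]

/-- The pin group over the symmetric group. -/
def pinGroup (n : ℕ) : Subgroup ((Op n)ˣ × Perm (Fin n)) where
  carrier := {x | (∀ i, Commute (x.1 : Op n) (opR i)) ∧ (x.1 : Op n) * (opP : Op n) = chi x.2 • ((opP : Op n) * (x.1 : Op n)) ∧
    ∀ k, (x.1 : Op n) * opL k = chi x.2 • (opL (x.2 k) * (x.1 : Op n))}
  one_mem' := by simp
  mul_mem' := by
    rintro ⟨g, σ⟩ ⟨h, τ⟩ ⟨hg1, hg2, hg3⟩ ⟨hh1, hh2, hh3⟩
    refine ⟨fun i => (hg1 i).mul_left (hh1 i), ?_, fun k => ?_⟩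
    · show (g : Op n) * (h : Op n) * (opP : Op n) = chi (σ * τ) • ((opP : Op n) * ((g : Op n) * (h : Op n)))
      rw [mul_assoc, hh2, mul_smul_comm, ← mul_assoc, hg2, smul_mul_assoc, smul_smul, map_mul,
        mul_comm (chi τ), mul_assoc]
    · show (g : Op n) * (h : Op n) * opL k = chi (σ * τ) • (opL (σ (τ k)) * ((g : Op n) * (h : Op n)))
      rw [mul_assoc, hh3, mul_smul_comm, ← mul_assoc, hg3, smul_mul_assoc, smul_smul, map_mul,
        mul_comm (chi τ), mul_assoc]
  inv_mem' := by
    rintro ⟨g, σ⟩ ⟨hg1, hg2, hg3⟩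
    refine ⟨fun i => (hg1 i).units_inv_left, ?_, fun k => ?_⟩
    · show (↑g⁻¹ : Op n) * (opP : Op n) = chi σ⁻¹ • ((opP : Op n) * (↑g⁻¹ : Op n))
      rw [chi_inv, Units.inv_mul_eq_iff_eq_mul, mul_smul_comm, ← mul_assoc, hg2, smul_mul_assoc,
        smul_smul, chi_sq, one_smul, mul_assoc, Units.mul_inv, mul_one]
    · show (↑g⁻¹ : Op n) * opL k = chi σ⁻¹ • (opL (σ⁻¹ k) * (↑g⁻¹ : Op n))
      rw [chi_inv, Units.inv_mul_eq_iff_eq_mul, mul_smul_comm, ← mul_assoc, hg3, smul_mul_assoc,
        smul_smul, chi_sq, one_smul, mul_assoc, Units.mul_inv, mul_one, Equiv.Perm.coe_inv, Equiv.apply_symm_apply]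

/-- The vector attached to a transposition. -/
def vec (a b : Fin n) : Op n := opL a - opL b

theorem vec_sq {a b : Fin n} (h : a ≠ b) : vec a b * vec a b = -1 := by
  rw [vec, sub_mul, mul_sub, mul_sub, opL_sq, opL_sq, opL_anticomm h.symm]
  have h3 : (1 : Op n) + 1 + 1 = 0 := by
    have : ((1 : ZMod 3) + 1 + 1) • (1 : Op n) = 0 := by
      rw [show (1 : ZMod 3) + 1 + 1 = 0 by decide, zero_smul]
    simpa [add_smul] using this
  rw [eq_neg_iff_add_eq_zero, ← h3]
  abel

theorem commute_vec_opR (a b i : Fin n) : Commute (vec a b) (opR i) :=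
  (opL_opR a i).sub_left (opL_opR b i)

/-- The unit attached to a transposition. -/
def vecUnit {a b : Fin n} (h : a ≠ b) : (Op n)ˣ where
  val := vec a b
  inv := -vec a b
  val_inv := by rw [op_mul_neg, vec_sq h, op_neg_neg]
  inv_val := by rw [op_neg_mul, vec_sq h, op_neg_neg]

theorem chi_swap {a b : Fin n} (h : a ≠ b) : chi (swap a b) = -1 := by
  simp [chi, Perm.sign_swap h]

theorem vecUnit_mem {a b : Fin n} (h : a ≠ b) : (vecUnit h, swap a b) ∈ pinGroup n := by
  refine ⟨fun i => ?_, ?_, fun k => ?_⟩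
  · exact commute_vec_opR a b i
  · show vec a b * opP = chi (swap a b) • (opP * vec a b)
    rw [chi_swap h, op_neg_one_smul, vec, sub_mul, mul_sub, opL_opP, opL_opP]
    abel
  · show vec a b * opL k = chi (swap a b) • (opL (swap a b k) * vec a b)
    rw [chi_swap h, op_neg_one_smul, vec, sub_mul, mul_sub]
    rcases eq_or_ne k a with rfl | hka
    · rw [swap_apply_left, opL_sq, opL_sq]; abel
    rcases eq_or_ne k b with rfl | hkb
    · rw [swap_apply_right, opL_sq, opL_sq]; abel
    rw [swap_apply_of_ne_of_ne hka hkb, opL_anticomm hka.symm, opL_anticomm hkb.symm]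
    abel

theorem pinGroup_surjective (σ : Perm (Fin n)) : ∃ g, (g, σ) ∈ pinGroup n := by
  induction σ using Perm.swap_induction_on with
  | one => exact ⟨1, one_mem _⟩
  | swap_mul f x y hxy ih =>
    obtain ⟨g, hg⟩ := ih
    exact ⟨vecUnit hxy * g, mul_mem (vecUnit_mem hxy) hg⟩

theorem eq_one_or_neg_one {g : (Op n)ˣ} (h : (g, (1 : Perm (Fin n))) ∈ pinGroup n) :
    g = 1 ∨ g = -1 := by
  obtain ⟨hR, hP, hL⟩ := h
  simp only [map_one, one_smul, Perm.coe_one, id_eq] at hP hL
  obtain ⟨c, hc⟩ := eq_scalar hL hR hP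
  have hc0 : c ≠ 0 := by
    rintro rfl
    rw [zero_smul] at hc
    exact g.isUnit.ne_zero hc
  have hcases : ∀ c : ZMod 3, c ≠ 0 → c = 1 ∨ c = -1 := by decide
  rcases hcases c hc0 with rfl | rfl
  · exact Or.inl (Units.ext (by rw [hc, one_smul, Units.val_one]))
  · exact Or.inr (Units.ext (by rw [hc, Units.val_neg, Units.val_one, op_neg_one_smul]))

/-- The double cover of the alternating group. -/
def spinGroup (n : ℕ) : Subgroup ((Op n)ˣ × alternatingGroup (Fin n)) :=
  (pinGroup n).comap ((MonoidHom.id _).prodMap (alternatingGroup (Fin n)).subtype)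

theorem mem_spinGroup {g : (Op n)ˣ} {σ : alternatingGroup (Fin n)} :
    (g, σ) ∈ spinGroup n ↔ (g, (σ : Perm (Fin n))) ∈ pinGroup n := Iff.rfl

/-- The projection onto the alternating group. -/
def proj (n : ℕ) : spinGroup n →* alternatingGroup (Fin n) :=
  (MonoidHom.snd _ _).comp (spinGroup n).subtype

theorem proj_surjective : Function.Surjective (proj n) := by
  intro σ
  obtain ⟨g, hg⟩ := pinGroup_surjective (σ : Perm (Fin n))
  exact ⟨⟨(g, σ), hg⟩, rfl⟩

theorem neg_one_mem : ((-1 : (Op n)ˣ), (1 : alternatingGroup (Fin n))) ∈ spinGroup n := by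
  rw [mem_spinGroup]
  refine ⟨fun i => ?_, ?_, fun k => ?_⟩ <;> simp [Commute, SemiconjBy]

/-- The central involution. -/
def minusOne (n : ℕ) : spinGroup n := ⟨_, neg_one_mem⟩

theorem units_neg_one_ne : (-1 : (Op n)ˣ) ≠ 1 := by
  intro h
  have h1 := congrFun (LinearMap.congr_fun (congrArg Units.val h) (Pi.single ∅ 1)) ∅
  simp at h1
  exact absurd h1 (show ¬ ((-1 : ZMod 3) = 1) by decide)

theorem minusOne_ne_one : minusOne n ≠ 1 := fun h =>
  units_neg_one_ne (congrArg Prod.fst (congrArg Subtype.val h))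

theorem minusOne_sq : minusOne n * minusOne n = 1 := by
  refine Subtype.ext (Prod.ext (Units.ext ?_) (one_mul _))
  show (-1 : Op n) * -1 = 1
  rw [op_neg_mul, op_mul_neg, op_neg_neg, one_mul]

theorem orderOf_minusOne : orderOf (minusOne n) = 2 :=
  orderOf_eq_prime (by rw [pow_two, minusOne_sq]) minusOne_ne_one

theorem minusOne_mem_center : minusOne n ∈ Subgroup.center (spinGroup n) := by
  rw [Subgroup.mem_center_iff]
  intro g
  refine Subtype.ext (Prod.ext (Units.ext ?_) ((mul_one _).trans (one_mul _).symm))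
  show ((g : (Op n)ˣ × alternatingGroup (Fin n)).1 : Op n) * -1 = -1 * _
  rw [op_mul_neg, op_neg_mul, mul_one, one_mul]

theorem proj_minusOne : proj n (minusOne n) = 1 := rfl

theorem eq_of_proj_eq_one {x : spinGroup n} (h : proj n x = 1) : x = 1 ∨ x = minusOne n := by
  obtain ⟨⟨g, σ⟩, hg⟩ := x
  change σ = 1 at h
  subst h
  rcases eq_one_or_neg_one (show (g, (1 : Perm (Fin n))) ∈ pinGroup n from hg) with rfl | rfl
  · exact Or.inl rfl
  · exact Or.inr rfl

theorem ker_proj : (proj n).ker = Subgroup.zpowers (minusOne n) := by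
  refine le_antisymm (fun x hx => ?_) (Subgroup.zpowers_le.mpr proj_minusOne)
  rcases eq_of_proj_eq_one (MonoidHom.mem_ker.mp hx) with rfl | rfl
  · exact one_mem _
  · exact Subgroup.mem_zpowers _

theorem eq_or_eq_mul_of_proj_eq {x y : spinGroup n} (h : proj n x = proj n y) :
    x = y ∨ x = minusOne n * y := by
  rcases eq_of_proj_eq_one (x := x * y⁻¹) (by rw [map_mul, map_inv, h, mul_inv_cancel]) with h' | h'
  · exact Or.inl (mul_inv_eq_one.mp h')
  · exact Or.inr (mul_inv_eq_iff_eq_mul.mp h')

theorem vec_anticomm {a b c d : Fin n} (hac : a ≠ c) (had : a ≠ d) (hbc : b ≠ c) (hbd : b ≠ d) :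
    vec c d * vec a b = -(vec a b * vec c d) := by
  simp only [vec, sub_mul, mul_sub]
  rw [opL_anticomm hac.symm, opL_anticomm had.symm, opL_anticomm hbc.symm, opL_anticomm hbd.symm]
  abel

attribute [irreducible] vec

/-- A lift of a product of two disjoint transpositions. -/
theorem exists_lift_double {a b c d : Fin n} (hab : a ≠ b) (hcd : c ≠ d) (hac : a ≠ c)
    (had : a ≠ d) (hbc : b ≠ c) (hbd : b ≠ d) :
    ∃ x : spinGroup n, ((proj n x : alternatingGroup (Fin n)) : Perm (Fin n)) = swap a b * swap c d ∧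
      x * x = minusOne n ∧ ((x : (Op n)ˣ × alternatingGroup (Fin n)).1 : Op n) = vec a b * vec c d := by
  have hev : swap a b * swap c d ∈ alternatingGroup (Fin n) := by
    simp [Perm.mem_alternatingGroup, Perm.sign_swap hab, Perm.sign_swap hcd]
  refine ⟨⟨(vecUnit hab * vecUnit hcd, ⟨_, hev⟩),
    mul_mem (vecUnit_mem hab) (vecUnit_mem hcd)⟩, rfl, Subtype.ext (Prod.ext (Units.ext ?_) ?_), rfl⟩
  · show vec a b * vec c d * (vec a b * vec c d) = (-1 : Op n)
    rw [mul_assoc, ← mul_assoc (vec c d), vec_anticomm hac had hbc hbd, op_neg_mul, mul_assoc (vec a b) (vec c d) (vec c d),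
      vec_sq hcd, op_mul_neg, op_mul_neg, op_mul_neg, mul_one, op_neg_neg, vec_sq hab]
  · refine Subtype.ext ?_
    show swap a b * swap c d * (swap a b * swap c d) = 1
    rw [mul_assoc, ← mul_assoc (swap c d), (Perm.Disjoint.commute (by
      intro x
      by_cases hx : x = a ∨ x = b
      · rcases hx with rfl | rfl
        · exact Or.inl (swap_apply_of_ne_of_ne hac had)
        · exact Or.inl (swap_apply_of_ne_of_ne hbc hbd)
      · push Not at hx
        exact Or.inr (swap_apply_of_ne_of_ne hx.1 hx.2)) : Commute (swap c d) (swap a b)).eq,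
      mul_assoc, swap_mul_self, mul_one, swap_mul_self]

theorem double_mul_double {α : Type*} [DecidableEq α] {a b c d : α} (hab : a ≠ b) (hac : a ≠ c)
    (had : a ≠ d) (hbc : b ≠ c) (hbd : b ≠ d) (hcd : c ≠ d) :
    swap a b * swap c d * (swap a c * swap b d) = swap a d * swap b c := by
  ext k
  simp only [Perm.mul_apply]
  by_cases ha : k = a
  · subst ha
    simp [swap_apply_of_ne_of_ne, hab, hac, had, hbc, hbd, hcd, hab.symm, hac.symm, had.symm,
      hbc.symm, hbd.symm, hcd.symm]
  by_cases hb : k = b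
  · subst hb
    simp [swap_apply_of_ne_of_ne, hab, hac, had, hbc, hbd, hcd, hab.symm, hac.symm, had.symm,
      hbc.symm, hbd.symm, hcd.symm]
  by_cases hc : k = c
  · subst hc
    simp [swap_apply_of_ne_of_ne, hab, hac, had, hbc, hbd, hcd, hab.symm, hac.symm, had.symm,
      hbc.symm, hbd.symm, hcd.symm]
  by_cases hd : k = d
  · subst hd
    simp [swap_apply_of_ne_of_ne, hab, hac, had, hbc, hbd, hcd, hab.symm, hac.symm, had.symm,
      hbc.symm, hbd.symm, hcd.symm]
  simp [swap_apply_of_ne_of_ne, ha, hb, hc, hd]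

/-- The central involution is a commutator. -/
theorem minusOne_mem_commutator (hn : 4 ≤ n) : minusOne n ∈ commutator (spinGroup n) := by
  let a : Fin n := ⟨0, by omega⟩
  let b : Fin n := ⟨1, by omega⟩
  let c : Fin n := ⟨2, by omega⟩
  let d : Fin n := ⟨3, by omega⟩
  have hab : a ≠ b := by simp [a, b]
  have hac : a ≠ c := by simp [a, c]
  have had : a ≠ d := by simp [a, d]
  have hbc : b ≠ c := by simp [b, c]
  have hbd : b ≠ d := by simp [b, d]
  have hcd : c ≠ d := by simp [c, d]
  obtain ⟨x, hx, hxx, -⟩ := exists_lift_double hab hcd hac had hbc hbd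
  obtain ⟨y, hy, hyy, -⟩ := exists_lift_double hac hbd hab had hbc.symm hcd
  obtain ⟨w, hw, hww, -⟩ := exists_lift_double had hbc hab hac hbd.symm hcd.symm
  have hprod : proj n (x * y) = proj n w := by
    refine Subtype.ext ?_
    rw [map_mul, Subgroup.coe_mul, hx, hy, hw]
    exact double_mul_double hab hac had hbc hbd hcd
  have hxy : x * y * (x * y) = minusOne n := by
    rcases eq_or_eq_mul_of_proj_eq hprod with h | h
    · rw [h, hww]
    · rw [h, show minusOne n * w * (minusOne n * w) = minusOne n * minusOne n * (w * w) by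
        rw [mul_assoc, ← mul_assoc w, Subgroup.mem_center_iff.mp minusOne_mem_center w]; group,
        minusOne_sq, one_mul, hww]
  have hinv : ∀ u : spinGroup n, u * u = minusOne n → u⁻¹ = u * minusOne n := by
    intro u hu
    refine inv_eq_of_mul_eq_one_right ?_
    rw [← mul_assoc, hu, minusOne_sq]
  have hcomm : x * y * x⁻¹ * y⁻¹ = minusOne n := by
    rw [hinv x hxx, hinv y hyy,
      show x * y * (x * minusOne n) * (y * minusOne n) = x * y * x * (minusOne n * y) * minusOne n by
        group,
      ← Subgroup.mem_center_iff.mp minusOne_mem_center y,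
      show x * y * x * (y * minusOne n) * minusOne n = x * y * (x * y) * (minusOne n * minusOne n) by
        group, hxy, minusOne_sq, mul_one]
  rw [← hcomm, commutator_def]
  exact Subgroup.commutator_mem_commutator (Subgroup.mem_top x) (Subgroup.mem_top y)

instance : Finite (spinGroup n) := by
  haveI : Finite (Op n) := Finite.of_injective _ DFunLike.coe_injective
  infer_instance

theorem nonempty_equiv (h : (Subgroup.zpowers (minusOne n)).Normal) :
    Nonempty (spinGroup n ⧸ Subgroup.zpowers (minusOne n) ≃* alternatingGroup (Fin n)) :=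
  ⟨(QuotientGroup.quotientMulEquivOfEq ker_proj.symm).trans
    (QuotientGroup.quotientKerEquivOfSurjective _ proj_surjective)⟩

end Cfsg.Agent.Lib.Spin
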